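import Groth.Agent.VecBal.K812.Iface
import Groth.Agent.VecBal.K812.LFib
import Groth.Agent.S2079
import Groth.Agent.S0386
import Mathlib.AlgebraicGeometry.AffineTransitionLimit
import Mathlib.AlgebraicGeometry.Noetherian
import Mathlib.CategoryTheory.Adjunction.Comma
import Mathlib.CategoryTheory.Comma.Over.Pullback
import Mathlib.CategoryTheory.Limits.Constructions.Over.Connected

/-!
# A flat proper family is, near a point, closed in a flat proper family of finite presentation with the same fibre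

`main : Iface.ModelStmt`.
-/

set_option autoImplicit false
universe u

open CategoryTheory CategoryTheory.Limits AlgebraicGeometry

namespace K997.J2a

open Groth.Agent.VecBal.K812

/-- A cofiltered limit of closed immersions of Noetherian schemes is eventually constant. -/
theorem exists_isIso_of_isLimit {I : Type u} [SmallCategory I] [IsCofiltered I] (D : I ⥤ Scheme.{u}) (c : Cone D)
    (hc : IsLimit c) (hD : ∀ (i j : I) (a : i ⟶ j), IsClosedImmersion (D.map a))
    (hN : ∀ i, IsNoetherian (D.obj i)) (hcl : ∀ i, IsClosedImmersion (c.π.app i)) : ∃ i, IsIso (c.π.app i) := by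
  obtain ⟨i₀⟩ := IsCofiltered.nonempty (C := I)
  let D' : Over i₀ ⥤ Scheme.{u} := Over.forget i₀ ⋙ D
  let c' : Cone D' := c.whisker (Over.forget i₀)
  have hc' : IsLimit c' := (Functor.Initial.isLimitWhiskerEquiv (Over.forget i₀) c).symm hc
  let t : D' ⟶ (Functor.const (Over i₀)).obj (D.obj i₀) :=
    { app := fun k => D.map k.hom
      naturality := fun k l a =>
        ((D.map_comp a.left l.hom).symm.trans (congrArg D.map (Over.w a))).trans (Category.comp_id _).symm }
  have h1 : ∀ {i j : Over i₀} (f : i ⟶ j), IsAffineHom (D'.map f) := fun {i j} f => by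
    have := hD _ _ f.left
    change IsAffineHom (D.map f.left)
    infer_instance
  have h2 : ∀ i : Over i₀, CompactSpace (D'.obj i) := fun i => (hN i.left).2
  have h3 : ∀ i : Over i₀, QuasiSeparatedSpace (D'.obj i) := fun i => by
    have := hN i.left
    change QuasiSeparatedSpace (D.obj i.left)
    infer_instance
  have h4 : LocallyOfFinitePresentation (c.π.app i₀) := by
    have := hN i₀
    have := hcl i₀
    infer_instance
  obtain ⟨k, g, hg, hg'⟩ := Scheme.exists_π_app_comp_eq_of_locallyOfFinitePresentation D' t (c.π.app i₀) c' hc'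
    (𝟙 c.pt) (by
      ext k : 2
      simp only [NatTrans.comp_app, Functor.const_map_app]
      exact c.w k.hom)
  refine ⟨k.left, g, hg, ?_⟩
  have h5 := hD _ _ k.hom
  rw [← cancel_mono (D.map k.hom), Category.assoc, Category.id_comp, c.w]
  exact hg'

/-- The base change of a morphism over `T` along `t : Z ⟶ T`. -/
theorem isPullback_map {Z T : Scheme.{u}} (t : Z ⟶ T) {A B : Over T} (φ : A ⟶ B) :
    IsPullback (pullback.fst A.hom t) ((Over.pullback t).map φ).left φ.left (pullback.fst B.hom t) := by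
  refine IsPullback.of_bot (v₂₁ := pullback.snd B.hom t) (v₂₂ := B.hom) (h₃₁ := t) ?_ ?_
    (IsPullback.of_hasPullback _ _)
  · have h1 : ((Over.pullback t).map φ).left ≫ pullback.snd B.hom t = pullback.snd A.hom t :=
      Over.w ((Over.pullback t).map φ)
    have h2 : φ.left ≫ B.hom = A.hom := Over.w φ
    rw [h1, h2]
    exact IsPullback.of_hasPullback _ _
  · exact (pullback.lift_fst _ _ _).symm

/-- A proper scheme over an affine scheme is closed in a proper scheme of finite presentation with the same base change to a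
given Noetherian scheme over the base. -/
theorem exists_stage {C T Z : Scheme.{u}} (f : C ⟶ T) [IsProper f] [IsAffine T] [IsNoetherian Z] (t : Z ⟶ T) :
    ∃ (C₀ : Scheme.{u}) (i : C ⟶ C₀) (f₀ : C₀ ⟶ T), IsClosedImmersion i ∧ i ≫ f₀ = f ∧ IsProper f₀ ∧
      LocallyOfFinitePresentation f₀ ∧ ∃ (X : Scheme.{u}) (a : X ⟶ C) (l : X ⟶ pullback f₀ t),
        IsPullback a l i (pullback.fst f₀ t) ∧ IsIso l := by
  obtain ⟨I, _, _, D, c, hc, e, hD, hc'⟩ := Groth.Agent.S2079.result f
  let P : Over T ⥤ Scheme.{u} := Over.pullback t ⋙ Over.forget Z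
  have : IsConnected I := IsCofiltered.isConnected I
  have hP : PreservesLimitsOfShape I P := inferInstance
  have hc₁ : IsLimit (P.mapCone c) := isLimitOfPreserves P hc
  have hcl : ∀ {A B : Over T} (φ : A ⟶ B), IsClosedImmersion φ.left → IsClosedImmersion (P.map φ) := by
    intro A B φ hφ
    exact MorphismProperty.of_isPullback (P := @IsClosedImmersion) (isPullback_map t φ) hφ
  obtain ⟨i, hi⟩ := exists_isIso_of_isLimit (D ⋙ P) (P.mapCone c) hc₁ (fun i j a => hcl _ (hD i j a))
    (fun i => by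
      have h1 := (hc' i).2.1
      change IsNoetherian (pullback (D.obj i).hom t)
      have : CompactSpace (pullback (D.obj i).hom t : Scheme.{u}) :=
        QuasiCompact.compactSpace_of_compactSpace (pullback.snd (D.obj i).hom t)
      exact {}) (fun i => hcl _ (hc' i).1)
  refine ⟨(D.obj i).left, e.inv.left ≫ (c.π.app i).left, (D.obj i).hom, ?_, ?_, (hc' i).2.1, (hc' i).2.2, _,
    pullback.fst c.pt.hom t ≫ e.hom.left, P.map (c.π.app i), ?_, hi⟩
  · have := (hc' i).1
    infer_instance
  · have h1 : (c.π.app i).left ≫ (D.obj i).hom = c.pt.hom := Over.w (c.π.app i)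
    rw [Category.assoc, h1, Over.w]
    rfl
  · have h1 := isPullback_map t (c.π.app i)
    refine h1.of_iso (Iso.refl _) ((Over.forget T).mapIso e) (Iso.refl _) (Iso.refl _) ?_ ?_ ?_ ?_
    · exact (Category.id_comp _).symm
    · exact (Category.comp_id _).trans (Category.id_comp _).symm
    · have h2 : e.hom.left ≫ e.inv.left = 𝟙 _ := by
        rw [← Over.comp_left, e.hom_inv_id]
        rfl
      change (c.π.app i).left ≫ 𝟙 _ = e.hom.left ≫ e.inv.left ≫ (c.π.app i).left
      rw [reassoc_of% h2, Category.comp_id]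
    · exact (Category.comp_id _).trans (Category.id_comp _).symm

/-- The stalk map of a closed immersion is bijective if the germs of its ideal vanish. -/
theorem bijective_stalkMap {C C₀ : Scheme.{u}} (i : C ⟶ C₀) [IsClosedImmersion i] (x : C)
    (h : ∀ (U : C₀.affineOpens) (hy : i x ∈ U.1) (a : Γ(C₀, U.1)), a ∈ i.ker.ideal U →
      C₀.presheaf.germ U.1 (i x) hy a = 0) : Function.Bijective (i.stalkMap x) := by
  refine ⟨?_, i.stalkMap_surjective x⟩
  rw [injective_iff_map_eq_zero]
  intro z hz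
  obtain ⟨W, hxW, b, rfl⟩ := C₀.presheaf.exists_germ_eq z
  rw [Scheme.Hom.germ_stalkMap_apply] at hz
  have hxW' : x ∈ i ⁻¹ᵁ W := hxW
  obtain ⟨W', hW', iU, iV, hres⟩ := C.presheaf.germ_eq x hxW' hxW' (i.app W b) 0 (hz.trans (map_zero _).symm)
  rw [map_zero] at hres
  obtain ⟨O, hO, hOW⟩ := i.isClosedEmbedding.isInducing.isOpen_iff.1 W'.2
  have hxO : i x ∈ (⟨O, hO⟩ : C₀.Opens) := by
    have : x ∈ i ⁻¹' O := by rw [hOW]; exact hW'
    exact this
  obtain ⟨U, hU, hxU, hle⟩ := exists_isAffineOpen_mem_and_subset (x := i x) (U := W ⊓ ⟨O, hO⟩) ⟨hxW, hxO⟩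
  have hle1 : U ≤ W := hle.trans inf_le_left
  have hle2 : i ⁻¹ᵁ U ≤ W' := fun z hz => by
    have h1 : i z ∈ O := hle.trans inf_le_right hz
    have h2 : z ∈ i ⁻¹' O := h1
    rw [hOW] at h2
    exact h2
  rw [← C₀.presheaf.germ_res_apply (homOfLE hle1) (i x) hxU b]
  refine h ⟨U, hU⟩ hxU _ ?_
  rw [Scheme.Hom.ker_apply, RingHom.mem_ker]
  have h3 := congrArg (fun φ => φ.hom b) (i.naturality (homOfLE hle1).op)
  refine h3.trans ?_
  have h4 : C.presheaf.map (homOfLE (i.preimage_mono hle1)).op =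
      C.presheaf.map iU.op ≫ C.presheaf.map (homOfLE hle2).op := by
    rw [← C.presheaf.map_comp]
    rfl
  have h5 := congrArg (fun φ => φ.hom (i.app W b)) h4
  refine h5.trans ?_
  refine (congrArg (C.presheaf.map (homOfLE hle2).op).hom hres).trans (map_zero _)

/-- The model near a point. -/
theorem main : Iface.ModelStmt.{u} := by
  intro C T f hf hp hT s
  let Ω : Type u := T.residueField s
  let t : Spec (CommRingCat.of Ω) ⟶ T := T.fromSpecResidueField s
  obtain ⟨C₀, i, f₀, hi, hif, hp₀, hlfp, X, a, l, hsq, hl⟩ := exists_stage f t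
  subst hif
  have hker : i.ker.comap (pullback.fst f₀ t) = ⊥ := by
    rw [LFib.comap_ker i (pullback.fst f₀ t) l a hsq]
    exact Scheme.Hom.ker_eq_bot_of_isIso _
  have hfl : Flat (i.ker.subschemeι ≫ f₀) := LFib.flat_ker i f₀
  have ht : t (IsLocalRing.closedPoint Ω) = s := Scheme.fromSpecResidueField_apply _ _
  -- the points of the fibre
  have hpt : ∀ y : C₀, f₀ y = s → ∃ x : C, i x = y ∧ Function.Bijective (i.stalkMap x) := by
    intro y hy
    obtain ⟨w, hw1, -⟩ := Scheme.Pullback.exists_preimage_pullback (f := f₀) (g := t) y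
      (IsLocalRing.closedPoint Ω) (hy.trans ht.symm)
    obtain ⟨v, rfl⟩ := l.surjective w
    have hx : i (a v) = y := by
      rw [← hw1, ← Scheme.Hom.comp_apply, ← Scheme.Hom.comp_apply, hsq.w]
    subst hx
    refine ⟨a v, rfl, bijective_stalkMap i (a v) fun U hyU b hb => ?_⟩
    exact LFib.germ_eq_zero f₀ i.ker (i (a v)) Ω t (ht.trans hy.symm) hker U hyU b hb
  -- flatness at the points of the fibre
  have hflat : ∀ y : C₀, f₀ y = s → (f₀.stalkMap y).hom.Flat := by
    intro y hy
    obtain ⟨x, rfl, hx⟩ := hpt y hy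
    have h1 : ((i ≫ f₀).stalkMap x).hom.Flat := Flat.stalkMap _ x
    have h3 : ((i ≫ f₀).stalkMap x).hom = (i.stalkMap x).hom.comp (f₀.stalkMap (i x)).hom :=
      congrArg CommRingCat.Hom.hom (Scheme.Hom.stalkMap_comp i f₀ x)
    rw [h3] at h1
    let e := RingEquiv.ofBijective (i.stalkMap x).hom hx
    have h4 : (f₀.stalkMap (i x)).hom =
        (e.symm : _ →+* _).comp ((i.stalkMap x).hom.comp (f₀.stalkMap (i x)).hom) := by
      ext z
      exact (e.symm_apply_apply _).symm
    rw [h4]
    exact h1.comp (RingHom.Flat.of_bijective e.symm.bijective)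
  have hopen := Groth.Agent.S0386.result f₀
  -- an affine neighbourhood of `s` over which `f₀` is flat
  have hcl : IsClosed (f₀ '' {y : C₀ | (f₀.stalkMap y).hom.Flat}ᶜ) := f₀.isClosedMap _ hopen.isClosed_compl
  have hs : s ∈ (⟨(f₀ '' {y : C₀ | (f₀.stalkMap y).hom.Flat}ᶜ)ᶜ, hcl.isOpen_compl⟩ : T.Opens) := by
    rintro ⟨y, hy, hys⟩
    exact hy (hflat y hys)
  obtain ⟨V, hV, hsV, hle⟩ := exists_isAffineOpen_mem_and_subset hs
  have hflV : ∀ y : C₀, f₀ y ∈ V → (f₀.stalkMap y).hom.Flat := by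
    intro y hy
    by_contra hn
    exact hle hy ⟨y, hn, rfl⟩
  refine ⟨V, V.ι, ⟨s, hsV⟩, (i ≫ f₀) ⁻¹ᵁ V, f₀ ⁻¹ᵁ V, ((i ≫ f₀) ⁻¹ᵁ V).ι, (i ≫ f₀) ∣_ V, i ∣_ (f₀ ⁻¹ᵁ V), f₀ ∣_ V,
    inferInstance, rfl, hV, (isPullback_morphismRestrict _ V).flip, ?_, (morphismRestrict_comp i f₀ V).symm, ?_, ?_, ?_, ?_⟩
  · have h1 : IsClosedImmersion (i ∣_ (f₀ ⁻¹ᵁ V)) :=
      MorphismProperty.of_isPullback (P := @IsClosedImmersion) (isPullback_morphismRestrict i (f₀ ⁻¹ᵁ V)).flip hi
    exact h1
  · exact MorphismProperty.of_isPullback (P := @IsProper) (isPullback_morphismRestrict f₀ V).flip hp₀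
  · refine Flat.of_stalkMap (f := f₀ ∣_ V) fun y => ?_
    exact (RingHom.Flat.respectsIso.arrow_mk_iso_iff (morphismRestrictStalkMap f₀ V y)).2 (hflV y.1 y.2)
  · exact MorphismProperty.of_isPullback (P := @LocallyOfFinitePresentation) (isPullback_morphismRestrict f₀ V).flip hlfp
  · intro y hy
    have hy1 : f₀ y.1 = s := by
      exact (morphismRestrict_base_coe f₀ V y).symm.trans (congrArg Subtype.val hy)
    obtain ⟨x, hx, hb⟩ := hpt y.1 hy1
    refine ⟨⟨x, ?_⟩, ?_, ?_⟩
    · change f₀ (i x) ∈ V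
      rw [hx]
      exact y.2
    · refine Subtype.ext ?_
      exact (morphismRestrict_base_coe i (f₀ ⁻¹ᵁ V) _).trans hx
    · rw [← ConcreteCategory.isIso_iff_bijective] at hb ⊢
      exact ((MorphismProperty.isomorphisms _).arrow_mk_iso_iff
        (morphismRestrictStalkMap i (f₀ ⁻¹ᵁ V) ⟨x, _⟩)).2 hb

end K997.J2a
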